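import Groth.Agent.SymCmp.Prod

/-!
# The product of two symmetric products as a quotient
-/

set_option autoImplicit false
set_option linter.style.haveILetI false

universe u

open CategoryTheory CategoryTheory.Limits AlgebraicGeometry TopologicalSpace SymProd

namespace Groth.Agent.SymCoprod

variable {X Z S : Scheme.{u}} (f : X ⟶ S) (g : Z ⟶ S) (d e : ℕ)

/-- The product of two fibre powers. -/
noncomputable abbrev prodPow : Scheme.{u} :=
  pullback (WidePullback.base fun _ : Fin d => f) (WidePullback.base fun _ : Fin e => g)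

/-- The action of a pair of permutations. -/
noncomputable def prodHom (σ : Equiv.Perm (Fin d) × Equiv.Perm (Fin e)) : prodPow f g d e ⟶ prodPow f g d e :=
  pullback.lift (pullback.fst _ _ ≫ permHom f d σ.1) (pullback.snd _ _ ≫ permHom g e σ.2) (by
    rw [Category.assoc, Category.assoc, permHom_base, permHom_base, pullback.condition])

@[reassoc]
theorem prodHom_fst (σ : Equiv.Perm (Fin d) × Equiv.Perm (Fin e)) :
    prodHom f g d e σ ≫ pullback.fst _ _ = pullback.fst _ _ ≫ permHom f d σ.1 :=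
  pullback.lift_fst _ _ _

@[reassoc]
theorem prodHom_snd (σ : Equiv.Perm (Fin d) × Equiv.Perm (Fin e)) :
    prodHom f g d e σ ≫ pullback.snd _ _ = pullback.snd _ _ ≫ permHom g e σ.2 :=
  pullback.lift_snd _ _ _

theorem prodHom_mul (σ τ : Equiv.Perm (Fin d) × Equiv.Perm (Fin e)) :
    prodHom f g d e (σ * τ) = prodHom f g d e τ ≫ prodHom f g d e σ := by
  apply pullback.hom_ext
  · rw [prodHom_fst, Category.assoc, prodHom_fst, prodHom_fst_assoc, Prod.fst_mul, permHom_mul]
  · rw [prodHom_snd, Category.assoc, prodHom_snd, prodHom_snd_assoc, Prod.snd_mul, permHom_mul]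

theorem prodHom_one : prodHom f g d e 1 = 𝟙 _ := by
  apply pullback.hom_ext
  · rw [prodHom_fst, Prod.fst_one, permHom_one, Category.comp_id, Category.id_comp]
  · rw [prodHom_snd, Prod.snd_one, permHom_one, Category.comp_id, Category.id_comp]

/-- The product action. -/
noncomputable def prodAct : ULift.{u} (Equiv.Perm (Fin d) × Equiv.Perm (Fin e)) →* Aut (prodPow f g d e) where
  toFun σ :=
    { hom := prodHom f g d e σ.down
      inv := prodHom f g d e σ.down⁻¹
      hom_inv_id := by rw [← prodHom_mul, inv_mul_cancel, prodHom_one]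
      inv_hom_id := by rw [← prodHom_mul, mul_inv_cancel, prodHom_one] }
  map_one' := Iso.ext (prodHom_one f g d e)
  map_mul' σ τ := Iso.ext (prodHom_mul f g d e σ.down τ.down)

variable {f g d e} {P Q : Scheme.{u}} {qX : fibPow f d ⟶ P} {pP : P ⟶ S} {qZ : fibPow g e ⟶ Q} {pQ : Q ⟶ S}

/-- The quotient map of the product. -/
noncomputable def prodQuot (hX : IsSymProd f d qX pP) (hZ : IsSymProd g e qZ pQ) :
    prodPow f g d e ⟶ pullback pP pQ :=
  pullback.map _ _ pP pQ qX qZ (𝟙 S) ((Category.comp_id _).trans hX.over.symm)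
    ((Category.comp_id _).trans hZ.over.symm)

theorem prodQuot_fst (hX : IsSymProd f d qX pP) (hZ : IsSymProd g e qZ pQ) :
    prodQuot hX hZ ≫ pullback.fst pP pQ = pullback.fst _ _ ≫ qX := pullback.lift_fst _ _ _

theorem prodQuot_snd (hX : IsSymProd f d qX pP) (hZ : IsSymProd g e qZ pQ) :
    prodQuot hX hZ ≫ pullback.snd pP pQ = pullback.snd _ _ ≫ qZ := pullback.lift_snd _ _ _

theorem prodQuot_inv (hX : IsSymProd f d qX pP) (hZ : IsSymProd g e qZ pQ)
    (σ : ULift.{u} (Equiv.Perm (Fin d) × Equiv.Perm (Fin e))) :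
    (prodAct f g d e σ).hom ≫ prodQuot hX hZ = prodQuot hX hZ := by
  apply pullback.hom_ext
  · rw [Category.assoc, prodQuot_fst]
    show prodHom f g d e σ.down ≫ _ = _
    rw [prodHom_fst_assoc]
    exact congrArg _ (hX.isQuot.inv ⟨σ.down.1⟩)
  · rw [Category.assoc, prodQuot_snd]
    show prodHom f g d e σ.down ≫ _ = _
    rw [prodHom_snd_assoc]
    exact congrArg _ (hZ.isQuot.inv ⟨σ.down.2⟩)

theorem isQuot_prod (hX : IsSymProd f d qX pP) (hZ : IsSymProd g e qZ pQ)
    (h : (Flat f ∧ Flat g) ∨ ∀ n : ℕ, 0 < n → IsUnit ((n : ℕ) : Γ(S, ⊤))) :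
    SGA1.IsQuot (prodAct f g d e) (prodQuot hX hZ) := by
  haveI := hX.isQuot.affine
  haveI := hZ.isQuot.affine
  haveI : IsAffineHom (prodQuot hX hZ) :=
    MorphismProperty.pullback_map (P := @IsAffineHom) ‹IsAffineHom qX› ‹IsAffineHom qZ›
      hX.over.symm hZ.over.symm
  refine SGA1Quot.isQuot_of_affine_cover (hinv := prodQuot_inv hX hZ) fun t => ?_
  obtain ⟨S0, hS0, hs, -⟩ := exists_isAffineOpen_mem_and_subset
    (x := pP (pullback.fst pP pQ t)) (U := ⊤) trivial
  obtain ⟨VP, hVP, hvP, hPS⟩ := exists_isAffineOpen_mem_and_subset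
    (x := pullback.fst pP pQ t) (U := pP ⁻¹ᵁ S0) hs
  obtain ⟨VQ, hVQ, hvQ, hQS⟩ := exists_isAffineOpen_mem_and_subset
    (x := pullback.snd pP pQ t) (U := pQ ⁻¹ᵁ S0) (by
      change pQ (pullback.snd pP pQ t) ∈ S0
      rw [← Scheme.Hom.comp_apply, ← pullback.condition, Scheme.Hom.comp_apply]
      exact hs)
  exact ⟨_, SymCmp.isAffineOpen_pullback (IsPullback.of_hasPullback pP pQ) hS0 hVQ hVP hQS hPS,
    ⟨hvP, hvQ⟩, SymCmp.good_prod hX hZ h (prodAct f g d e) (fun σ => prodHom_fst f g d e σ.down)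
      (fun σ => prodHom_snd f g d e σ.down) (prodQuot_fst hX hZ) (prodQuot_snd hX hZ) _ hS0 hVP hPS hVQ hQS⟩

end Groth.Agent.SymCoprod
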