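import Groth.Agent.SymCoprod.Block
import Groth.Agent.SymCoprod.Prod
import Groth.Prelude.Def_K0Var
import Mathlib.AlgebraicGeometry.Morphisms.ClosedImmersion

/-!
# Symmetric products of a disjoint union
-/

set_option autoImplicit false
set_option linter.style.haveILetI false

universe u

open CategoryTheory CategoryTheory.Limits AlgebraicGeometry TopologicalSpace SymProd

namespace Groth.Agent.SymCoprod

variable {X X' Y : Scheme.{u}} (f : X ⟶ Y) (f' : X' ⟶ Y)

/-- Indices of the factors lying in the first summand. -/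
def InL {n : ℕ} (z : fibPow (coprod.desc f f') n) (l : Fin n) : Prop :=
  WidePullback.π (fun _ : Fin n => coprod.desc f f') l z ∈ Set.range (coprod.inl : X ⟶ X ⨿ X')

theorem not_inl_iff (x : (X ⨿ X' : Scheme.{u})) :
    x ∉ Set.range (coprod.inl : X ⟶ X ⨿ X') ↔ x ∈ Set.range (coprod.inr : X' ⟶ X ⨿ X') := by
  rw [← Set.mem_compl_iff]
  erw [(AlgebraicGeometry.isCompl_range_inl_inr X X').compl_eq]

/-- The number of factors lying in the first summand. -/
noncomputable def countL {n : ℕ} (z : fibPow (coprod.desc f f') n) : ℕ :=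
  Nat.card {l : Fin n // InL f f' z l}

theorem inL_perm {n : ℕ} (σ : Equiv.Perm (Fin n)) (z : fibPow (coprod.desc f f') n) (l : Fin n) :
    InL f f' (permHom _ n σ z) l ↔ InL f f' z (σ.symm l) := by
  unfold InL
  rw [← Scheme.Hom.comp_apply, permHom_π]

theorem countL_perm {n : ℕ} (σ : Equiv.Perm (Fin n)) (z : fibPow (coprod.desc f f') n) :
    countL f f' (permHom _ n σ z) = countL f f' z :=
  Nat.card_congr (σ.symm.subtypeEquiv fun l => inL_perm f f' σ z l)

variable (i j : ℕ)

/-- The block inclusion. -/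
noncomputable def blockMap : prodPow f f' i j ⟶ fibPow (coprod.desc f f') (i + j) :=
  WidePullback.lift (pullback.fst _ _ ≫ WidePullback.base _)
    (fun l => Fin.addCases (fun a => pullback.fst _ _ ≫ WidePullback.π (fun _ : Fin i => f) a ≫ coprod.inl)
      (fun c => pullback.snd _ _ ≫ WidePullback.π (fun _ : Fin j => f') c ≫ coprod.inr) l)
    (fun l => by
      refine Fin.addCases (fun a => ?_) (fun c => ?_) l
      · simp only [Fin.addCases_left, Category.assoc, coprod.inl_desc, WidePullback.π_arrow]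
      · simp only [Fin.addCases_right, Category.assoc, coprod.inr_desc, WidePullback.π_arrow,
          pullback.condition])

@[reassoc]
theorem blockMap_left (a : Fin i) :
    blockMap f f' i j ≫ WidePullback.π (fun _ => coprod.desc f f') (Fin.castAdd j a) =
      pullback.fst _ _ ≫ WidePullback.π (fun _ : Fin i => f) a ≫ coprod.inl := by
  rw [blockMap, WidePullback.lift_π, Fin.addCases_left]

@[reassoc]
theorem blockMap_right (c : Fin j) :
    blockMap f f' i j ≫ WidePullback.π (fun _ => coprod.desc f f') (Fin.natAdd i c) =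
      pullback.snd _ _ ≫ WidePullback.π (fun _ : Fin j => f') c ≫ coprod.inr := by
  rw [blockMap, WidePullback.lift_π, Fin.addCases_right]

@[reassoc]
theorem blockMap_base :
    blockMap f f' i j ≫ WidePullback.base _ = pullback.fst _ _ ≫ WidePullback.base _ := by
  rw [blockMap, WidePullback.lift_base]

/-- The block condition. -/
def IsBlockPt (z : fibPow (coprod.desc f f') (i + j)) : Prop :=
  ∀ l : Fin (i + j), InL f f' z l ↔ (l : ℕ) < i

/-- The open of the block. -/
noncomputable def blockOpen : (fibPow (coprod.desc f f') (i + j)).Opens :=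
  ⟨{z | IsBlockPt f f' i j z}, by
    have : {z | IsBlockPt f f' i j z} = ⋂ l : Fin (i + j),
        (WidePullback.π (fun _ => coprod.desc f f') l).base ⁻¹'
          (if (l : ℕ) < i then Set.range (coprod.inl : X ⟶ X ⨿ X') else Set.range (coprod.inr : X' ⟶ X ⨿ X')) := by
      ext z
      simp only [Set.mem_setOf_eq, Set.mem_iInter, Set.mem_preimage, IsBlockPt]
      refine forall_congr' fun l => ?_
      split_ifs with hl
      · simp [InL, hl]
      · rw [← not_inl_iff]
        simp [InL, hl]
    rw [this]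
    refine isOpen_iInter_of_finite fun l => ?_
    split_ifs
    · exact (Scheme.Hom.opensRange (coprod.inl : X ⟶ X ⨿ X')).isOpen.preimage (Scheme.Hom.continuous _)
    · exact (Scheme.Hom.opensRange (coprod.inr : X' ⟶ X ⨿ X')).isOpen.preimage (Scheme.Hom.continuous _)⟩

theorem blockMap_mem (w : prodPow f f' i j) : IsBlockPt f f' i j (blockMap f f' i j w) := by
  refine fun l => Fin.addCases (fun a => ?_) (fun c => ?_) l
  · refine iff_of_true ?_ (by simp [a.isLt])
    unfold InL
    rw [← Scheme.Hom.comp_apply, blockMap_left, ← Category.assoc, Scheme.Hom.comp_apply]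
    exact ⟨_, rfl⟩
  · refine iff_of_false ?_ (by simp)
    unfold InL
    rw [← Scheme.Hom.comp_apply, blockMap_right, ← Category.assoc, Scheme.Hom.comp_apply, not_inl_iff]
    exact ⟨_, rfl⟩

theorem isOpenImmersion_blockMap :
    IsOpenImmersion (blockMap f f' i j) ∧
      Set.range (blockMap f f' i j) = {z | IsBlockPt f f' i j z} := by
  set b := blockMap f f' i j
  let B := blockOpen f f' i j
  let b' : prodPow f f' i j ⟶ B.toScheme := IsOpenImmersion.lift B.ι b (by
    rw [Scheme.Opens.range_ι]; rintro _ ⟨w, rfl⟩; exact blockMap_mem f f' i j w)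
  have hb' : b' ≫ B.ι = b := IsOpenImmersion.lift_fac _ _ _
  have hL : ∀ a : Fin i, Set.range (B.ι ≫ WidePullback.π (fun _ => coprod.desc f f') (Fin.castAdd j a)) ⊆
      Set.range (coprod.inl : X ⟶ X ⨿ X') := by
    rintro a _ ⟨z, rfl⟩
    rw [Scheme.Hom.comp_apply]
    exact (z.2 _).2 (by simp [a.isLt])
  have hR : ∀ c : Fin j, Set.range (B.ι ≫ WidePullback.π (fun _ => coprod.desc f f') (Fin.natAdd i c)) ⊆
      Set.range (coprod.inr : X' ⟶ X ⨿ X') := by
    rintro c _ ⟨z, rfl⟩
    rw [Scheme.Hom.comp_apply, ← not_inl_iff]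
    exact fun h => by simpa using (z.2 (Fin.natAdd i c)).1 h
  have hLπ : ∀ a : Fin i, IsOpenImmersion.lift (coprod.inl : X ⟶ X ⨿ X') _ (hL a) ≫ f =
      B.ι ≫ WidePullback.base _ := fun a => by
    have := IsOpenImmersion.lift_fac (coprod.inl : X ⟶ X ⨿ X') _ (hL a)
    have := congrArg (· ≫ coprod.desc f f') this
    simpa only [Category.assoc, coprod.inl_desc, WidePullback.π_arrow] using this
  have hRπ : ∀ c : Fin j, IsOpenImmersion.lift (coprod.inr : X' ⟶ X ⨿ X') _ (hR c) ≫ f' =
      B.ι ≫ WidePullback.base _ := fun c => by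
    have := IsOpenImmersion.lift_fac (coprod.inr : X' ⟶ X ⨿ X') _ (hR c)
    have := congrArg (· ≫ coprod.desc f f') this
    simpa only [Category.assoc, coprod.inr_desc, WidePullback.π_arrow] using this
  let c : B.toScheme ⟶ prodPow f f' i j := pullback.lift
    (WidePullback.lift (B.ι ≫ WidePullback.base _) (fun a => IsOpenImmersion.lift _ _ (hL a)) hLπ)
    (WidePullback.lift (B.ι ≫ WidePullback.base _) (fun a => IsOpenImmersion.lift _ _ (hR a)) hRπ)
    (by rw [WidePullback.lift_base, WidePullback.lift_base])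
  have hcb : c ≫ b = B.ι := by
    refine WidePullback.hom_ext _ _ _ (fun l => ?_) ?_
    · refine Fin.addCases (fun a => ?_) (fun a => ?_) l
      · rw [Category.assoc, blockMap_left, pullback.lift_fst_assoc, WidePullback.lift_π_assoc,
          IsOpenImmersion.lift_fac]
      · rw [Category.assoc, blockMap_right, pullback.lift_snd_assoc, WidePullback.lift_π_assoc,
          IsOpenImmersion.lift_fac]
    · rw [Category.assoc, blockMap_base, pullback.lift_fst_assoc, WidePullback.lift_base]
  have h1 : c ≫ b' = 𝟙 _ := by rw [← cancel_mono B.ι, Category.assoc, hb', hcb, Category.id_comp]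
  have h2 : b' ≫ c = 𝟙 _ := by
    refine pullback.hom_ext ?_ ?_
    · refine WidePullback.hom_ext _ _ _ (fun a => ?_) ?_
      · rw [← cancel_mono (coprod.inl : X ⟶ X ⨿ X')]
        simp only [c, Category.assoc, Category.id_comp, pullback.lift_fst_assoc, WidePullback.lift_π_assoc,
          IsOpenImmersion.lift_fac, reassoc_of% hb', blockMap_left, b]
      · simp only [c, Category.assoc, Category.id_comp, pullback.lift_fst_assoc, WidePullback.lift_base,
          reassoc_of% hb', blockMap_base, b]
    · refine WidePullback.hom_ext _ _ _ (fun a => ?_) ?_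
      · rw [← cancel_mono (coprod.inr : X' ⟶ X ⨿ X')]
        simp only [c, Category.assoc, Category.id_comp, pullback.lift_snd_assoc, WidePullback.lift_π_assoc,
          IsOpenImmersion.lift_fac, reassoc_of% hb', blockMap_right, b]
      · simp only [c, Category.assoc, Category.id_comp, pullback.lift_snd_assoc, WidePullback.lift_base,
          reassoc_of% hb', blockMap_base, b, pullback.condition]
  haveI : IsIso b' := ⟨c, h2, h1⟩
  refine ⟨hb' ▸ inferInstance, ?_⟩
  rw [← hb', Scheme.Hom.comp_base, TopCat.coe_comp, Set.range_comp,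
    Set.range_eq_univ.2 b'.surjective, Set.image_univ]
  exact B.range_ι

theorem isClosedImmersion_blockMap : IsClosedImmersion (blockMap f f' i j) := by
  obtain ⟨h1, h2⟩ := isOpenImmersion_blockMap f f' i j
  haveI := h1
  refine IsClosedImmersion.of_isPreimmersion _ ?_
  rw [h2]
  have hrw : {z | IsBlockPt f f' i j z} = ⋂ l : Fin (i + j),
      {z | InL f f' z l ↔ (l : ℕ) < i} := by
    ext z; simp [IsBlockPt]
  rw [hrw]
  refine isClosed_iInter fun l => ?_
  by_cases hl : (l : ℕ) < i
  · have : {z | InL f f' z l ↔ (l : ℕ) < i} = (WidePullback.π (fun _ => coprod.desc f f') l).base ⁻¹'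
        (Set.range (coprod.inr : X' ⟶ X ⨿ X'))ᶜ := by
      ext z
      simp only [Set.mem_setOf_eq, hl, iff_true, Set.mem_preimage, Set.mem_compl_iff, ← not_inl_iff,
        not_not]
      rfl
    rw [this]
    exact (Scheme.Hom.opensRange (coprod.inr : X' ⟶ X ⨿ X')).isOpen.isClosed_compl.preimage
      (Scheme.Hom.continuous _)
  · have : {z | InL f f' z l ↔ (l : ℕ) < i} = (WidePullback.π (fun _ => coprod.desc f f') l).base ⁻¹'
        (Set.range (coprod.inl : X ⟶ X ⨿ X'))ᶜ := by
      ext z
      simp only [Set.mem_setOf_eq, hl, iff_false, Set.mem_preimage, Set.mem_compl_iff]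
      rfl
    rw [this]
    exact (Scheme.Hom.opensRange (coprod.inl : X ⟶ X ⨿ X')).isOpen.isClosed_compl.preimage
      (Scheme.Hom.continuous _)

/-- A pair of permutations as a permutation of all the factors. -/
noncomputable def blockPerm :
    ULift.{u} (Equiv.Perm (Fin i) × Equiv.Perm (Fin j)) →* ULift.{u} (Equiv.Perm (Fin (i + j))) :=
  MulEquiv.ulift.symm.toMonoidHom.comp
    ((finSumFinEquiv.permCongrHom.toMonoidHom.comp (Equiv.Perm.sumCongrHom (Fin i) (Fin j))).comp
      MulEquiv.ulift.toMonoidHom)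

theorem blockPerm_symm_castAdd (σ : ULift.{u} (Equiv.Perm (Fin i) × Equiv.Perm (Fin j))) (a : Fin i) :
    (blockPerm i j σ).down.symm (Fin.castAdd j a) = Fin.castAdd j (σ.down.1.symm a) := by
  rw [Equiv.symm_apply_eq]
  show _ = finSumFinEquiv ((Equiv.sumCongr σ.down.1 σ.down.2) (finSumFinEquiv.symm _))
  rw [finSumFinEquiv_symm_apply_castAdd]
  simp

theorem blockPerm_symm_natAdd (σ : ULift.{u} (Equiv.Perm (Fin i) × Equiv.Perm (Fin j))) (a : Fin j) :
    (blockPerm i j σ).down.symm (Fin.natAdd i a) = Fin.natAdd i (σ.down.2.symm a) := by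
  rw [Equiv.symm_apply_eq]
  show _ = finSumFinEquiv ((Equiv.sumCongr σ.down.1 σ.down.2) (finSumFinEquiv.symm _))
  rw [finSumFinEquiv_symm_apply_natAdd]
  simp

theorem blockMap_perm (σ : ULift.{u} (Equiv.Perm (Fin i) × Equiv.Perm (Fin j))) :
    (prodAct f f' i j σ).hom ≫ blockMap f f' i j =
      blockMap f f' i j ≫ (permActU (coprod.desc f f') (i + j) (blockPerm i j σ)).hom := by
  show prodHom f f' i j σ.down ≫ _ = _ ≫ permHom _ _ (blockPerm i j σ).down
  refine WidePullback.hom_ext _ _ _ (fun l => ?_) ?_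
  · refine Fin.addCases (fun a => ?_) (fun a => ?_) l
    · rw [Category.assoc, Category.assoc, permHom_π, blockPerm_symm_castAdd, blockMap_left,
        blockMap_left, prodHom_fst_assoc, permHom_π_assoc]
    · rw [Category.assoc, Category.assoc, permHom_π, blockPerm_symm_natAdd, blockMap_right,
        blockMap_right, prodHom_snd_assoc, permHom_π_assoc]
  · rw [Category.assoc, Category.assoc, permHom_base, blockMap_base, prodHom_fst_assoc, permHom_base]

theorem blockMap_sep (σ : ULift.{u} (Equiv.Perm (Fin (i + j)))) (b b' : prodPow f f' i j)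
    (h : (permActU (coprod.desc f f') (i + j) σ).hom (blockMap f f' i j b) = blockMap f f' i j b') :
    ∃ η, blockPerm i j η = σ := by
  have key : ∀ l : Fin (i + j), (σ.down l : ℕ) < i ↔ (l : ℕ) < i := fun l => by
    rw [← blockMap_mem f f' i j b' (σ.down l), ← h]
    show InL f f' (permHom _ _ σ.down _) _ ↔ _
    rw [inL_perm, Equiv.symm_apply_apply, blockMap_mem f f' i j b l]
  let τ : Equiv.Perm (Fin i ⊕ Fin j) := finSumFinEquiv.symm.permCongr σ.down
  obtain ⟨η, hη⟩ : τ ∈ (Equiv.Perm.sumCongrHom (Fin i) (Fin j)).range := by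
    refine Equiv.Perm.mem_sumCongrHom_range_of_perm_mapsTo_inl ?_
    rintro _ ⟨a, rfl⟩
    have hlt : (σ.down (Fin.castAdd j a) : ℕ) < i := (key _).2 (by simp [a.isLt])
    refine ⟨⟨_, hlt⟩, ?_⟩
    show Sum.inl _ = finSumFinEquiv.symm (σ.down (finSumFinEquiv (Sum.inl a)))
    rw [finSumFinEquiv_apply_left, Equiv.eq_symm_apply, finSumFinEquiv_apply_left]
    exact Fin.ext rfl
  refine ⟨⟨η⟩, ULift.ext _ _ ?_⟩
  show finSumFinEquiv.permCongr (Equiv.Perm.sumCongrHom _ _ η) = σ.down
  rw [hη]
  ext l
  simp [τ]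

theorem exists_perm_block {z : fibPow (coprod.desc f f') (i + j)} (hz : countL f f' z = i) :
    ∃ σ, IsBlockPt f f' i j (permHom _ _ σ z) := by
  classical
  have hcard : Nat.card {l : Fin (i + j) // (l : ℕ) < i} = Nat.card {l // InL f f' z l} := by
    rw [show Nat.card {l // InL f f' z l} = i from hz]
    conv_rhs => rw [← Nat.card_fin i]
    exact Nat.card_congr ⟨fun l => ⟨l.1, l.2⟩, fun a => ⟨Fin.castAdd j a, by simp [a.isLt]⟩,
      fun l => rfl, fun a => rfl⟩
  let e := (Finite.equivFinOfCardEq hcard).trans (Finite.equivFin _).symm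
  refine ⟨(Equiv.extendSubtype e).symm, fun l => ?_⟩
  rw [inL_perm, Equiv.symm_symm]
  refine ⟨fun h => ?_, fun h => e.extendSubtype_mem l h⟩
  by_contra hl
  exact e.extendSubtype_not_mem l hl h

theorem countL_of_isBlockPt {z : fibPow (coprod.desc f f') (i + j)} (hz : IsBlockPt f f' i j z) :
    countL f f' z = i := by
  conv_rhs => rw [← Nat.card_fin i]
  exact Nat.card_congr ⟨fun l => ⟨l.1, (hz l.1).1 l.2⟩,
    fun a => ⟨Fin.castAdd j a, (hz _).2 (by simp [a.isLt])⟩, fun l => rfl, fun a => rfl⟩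

variable {f f'}

theorem exists_piece
    (hunit : ∀ m : ℕ, 0 < m → IsUnit ((m : ℕ) : Γ(Y, ⊤)))
    {Sy Sy' T : Scheme.{u}} {q : fibPow f i ⟶ Sy} {g : Sy ⟶ Y} (hS : IsSymProd f i q g)
    {q' : fibPow f' j ⟶ Sy'} {g' : Sy' ⟶ Y} (hS' : IsSymProd f' j q' g')
    {n : ℕ} (hn : i + j = n) {Q : fibPow (coprod.desc f f') n ⟶ T} {h : T ⟶ Y}
    (hT : IsSymProd (coprod.desc f f') n Q h)
    [LocallyOfFiniteType g] [QuasiCompact g] [LocallyOfFiniteType g'] [QuasiCompact g'] :
    ∃ (W : T.Opens) (e : pullback g g' ≅ W.toScheme),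
      (W : Set T) = Q '' {z | countL f f' z = i} ∧
      e.hom ≫ W.ι ≫ h = pullback.fst g g' ≫ g := by
  subst hn
  haveI := (isOpenImmersion_blockMap f f' i j).1
  haveI := isClosedImmersion_blockMap f f' i j
  obtain ⟨W, r, hr, hrq, hW⟩ := exists_quot_block hT.isQuot (blockMap f f' i j) (blockPerm i j)
    (blockMap_sep f f' i j) (prodAct f f' i j) (blockMap_perm f f' i j)
  have hu := isQuot_prod hS hS' (.inr hunit)
  obtain ⟨a, ha, -⟩ := SGA1Quot.existsUnique_desc_of_isQuot hu r hrq.inv
  obtain ⟨c, hc, -⟩ := SGA1Quot.existsUnique_desc_of_isQuot hrq (prodQuot hS hS') hu.inv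
  have hac : a ≫ c = 𝟙 _ :=
    (SGA1Quot.existsUnique_desc_of_isQuot hu _ hu.inv).unique
      (show prodQuot hS hS' ≫ a ≫ c = _ by rw [← Category.assoc, ha, hc]) (Category.comp_id _)
  have hca : c ≫ a = 𝟙 _ :=
    (SGA1Quot.existsUnique_desc_of_isQuot hrq _ hrq.inv).unique
      (show r ≫ c ≫ a = _ by rw [← Category.assoc, hc, ha]) (Category.comp_id _)
  refine ⟨W, ⟨a, c, hac, hca⟩, ?_, ?_⟩
  · rw [hW]
    ext y
    constructor
    · rintro ⟨w, rfl⟩
      exact ⟨_, countL_of_isBlockPt f f' i j (blockMap_mem f f' i j w), (Scheme.Hom.comp_apply _ _ _).symm⟩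
    · rintro ⟨z, hz, rfl⟩
      obtain ⟨σ, hσ⟩ := exists_perm_block f f' i j hz
      obtain ⟨w, hw⟩ : permHom _ _ σ z ∈ Set.range (blockMap f f' i j) := by
        rw [(isOpenImmersion_blockMap f f' i j).2]; exact hσ
      refine ⟨w, ?_⟩
      rw [Scheme.Hom.comp_apply, hw, ← Scheme.Hom.comp_apply]
      exact congrArg (fun k => k z) (hT.isQuot.inv ⟨σ⟩)
  · have hinv : ∀ σ, (prodAct f f' i j σ).hom ≫ (prodQuot hS hS' ≫ pullback.fst g g' ≫ g) =
        prodQuot hS hS' ≫ pullback.fst g g' ≫ g := fun σ => by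
      rw [← Category.assoc, prodQuot_inv]
    refine (SGA1Quot.existsUnique_desc_of_isQuot hu _ hinv).unique ?_ rfl
    show prodQuot hS hS' ≫ a ≫ W.ι ≫ h = _
    rw [reassoc_of% ha, reassoc_of% hr, hT.over, blockMap_base, reassoc_of% (prodQuot_fst hS hS'), hS.over]

theorem cl_eq_of_eq {A S : Scheme.{u}} {a b : A ⟶ S} (h : a = b) [LocallyOfFiniteType a] [QuasiCompact a]
    [LocallyOfFiniteType b] [QuasiCompact b] : K0Var.cl a = K0Var.cl b := by
  subst h; rfl

theorem cl_disjoint_cover {T S : Scheme.{u}} (h : T ⟶ S) [LocallyOfFiniteType h] [QuasiCompact h]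
    {α : Type*} [Fintype α] (W : α → T.Opens) (hdisj : ∀ a b, a ≠ b → Disjoint (W a : Set T) (W b))
    (hcov : ∀ x : T, ∃ a, x ∈ W a) [∀ a, QuasiCompact ((W a).ι ≫ h)] :
    K0Var.cl h = ∑ a, K0Var.cl ((W a).ι ≫ h) := by
  classical
  have hclosed : ∀ a, IsClosed (W a : Set T) := fun a => by
    have : (W a : Set T) = (⋃ b ∈ ({a}ᶜ : Set α), (W b : Set T))ᶜ := by
      ext x
      simp only [Set.mem_compl_iff, Set.mem_iUnion, Set.mem_singleton_iff, SetLike.mem_coe, not_exists]
      constructor
      · exact fun hx b hb hxb => Set.disjoint_left.1 (hdisj a b (fun e => hb e.symm)) hx hxb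
      · intro hx
        obtain ⟨b, hb⟩ := hcov x
        by_contra hxa
        exact hx b (fun e => hxa (e ▸ hb)) hb
    rw [this]
    exact (isOpen_biUnion fun b _ => (W b).isOpen).isClosed_compl
  have main : ∀ (s : Finset α) (U : T.Opens) [QuasiCompact (U.ι ≫ h)], (U : Set T) = ⋃ a ∈ s, (W a : Set T) →
      K0Var.cl (U.ι ≫ h) = ∑ a ∈ s, K0Var.cl ((W a).ι ≫ h) := by
    intro s
    induction s using Finset.induction with
    | empty =>
      intro U _ hU
      haveI : IsEmpty U := ⟨fun x => by simpa using hU.le x.2⟩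
      rw [Finset.sum_empty]
      exact K0Var.Gen.cl_eq_zero_of_isEmpty _
    | insert a s ha ih =>
      intro U _ hU
      have hUclosed : IsClosed (U : Set T) := by
        rw [hU]; exact Set.Finite.isClosed_biUnion (Finset.finite_toSet _) fun b _ => hclosed b
      let U' : T.Opens := ⟨⋃ b ∈ s, (W b : Set T), isOpen_biUnion fun b _ => (W b).isOpen⟩
      have hU'closed : IsClosed (U' : Set T) :=
        Set.Finite.isClosed_biUnion (Finset.finite_toSet _) fun b _ => hclosed b
      have hle : W a ≤ U := fun x hx => hU.ge (Set.mem_biUnion (Finset.mem_insert_self a s) hx)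
      have hle' : U' ≤ U := fun x hx => by
        obtain ⟨b, hb, hxb⟩ := Set.mem_iUnion₂.1 hx
        exact hU.ge (Set.mem_biUnion (Finset.mem_insert_of_mem hb) hxb)
      haveI : IsClosedImmersion U'.ι :=
        IsClosedImmersion.of_isPreimmersion _ (by rw [Scheme.Opens.range_ι]; exact hU'closed)
      have range_le : ∀ (V : T.Opens) (hV : V ≤ U),
          Set.range (T.homOfLE hV) = Subtype.val ⁻¹' (V : Set T) := fun V hV => by
        ext x
        constructor
        · rintro ⟨v, rfl⟩
          show U.ι (T.homOfLE hV v) ∈ V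
          rw [← Scheme.Hom.comp_apply, Scheme.homOfLE_ι]
          exact v.2
        · exact fun hx => ⟨⟨x.1, hx⟩, Subtype.ext (Scheme.homOfLE_apply _ _)⟩
      haveI : IsClosedImmersion (T.homOfLE hle) := IsClosedImmersion.of_isPreimmersion _ (by
        rw [range_le]; exact (hclosed a).preimage continuous_subtype_val)
      haveI : IsClosedImmersion (T.homOfLE hle') := IsClosedImmersion.of_isPreimmersion _ (by
        rw [range_le]; exact hU'closed.preimage continuous_subtype_val)
      have hr : Set.range (T.homOfLE hle) = (Set.range (T.homOfLE hle'))ᶜ := by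
        rw [range_le, range_le]
        ext x
        simp only [Set.mem_preimage, Set.mem_compl_iff]
        constructor
        · intro hx hx'
          obtain ⟨b, hb, hxb⟩ := Set.mem_iUnion₂.1 hx'
          exact Set.disjoint_left.1 (hdisj a b (fun e => ha (e ▸ hb))) hx hxb
        · intro hx
          obtain ⟨b, hb, hxb⟩ := Set.mem_iUnion₂.1 (hU.le x.2)
          rcases Finset.mem_insert.1 hb with rfl | hb
          · exact hxb
          · exact (hx (Set.mem_biUnion hb hxb)).elim
      rw [K0Var.cl_scissor (U.ι ≫ h) (T.homOfLE hle) (T.homOfLE hle') hr, Finset.sum_insert ha]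
      rw [cl_eq_of_eq (b := (W a).ι ≫ h) (Scheme.homOfLE_ι_assoc _ _ _),
        cl_eq_of_eq (b := U'.ι ≫ h) (Scheme.homOfLE_ι_assoc _ _ _)]
      rw [ih U' rfl]
  haveI : IsIso (⊤ : T.Opens).ι := T.topIso.isIso_hom
  rw [← main Finset.univ ⊤ (by
    ext x
    simp only [Opens.coe_top, Set.mem_univ, Set.mem_iUnion, Finset.mem_univ, exists_true_left, true_iff]
    exact hcov x)]
  exact (K0Var.cl_congr _ _ T.topIso rfl).symm

end Groth.Agent.SymCoprod
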