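import Groth.Agent.SGA1Quot.Orbits

/-!
# Quotient of a block of translates

If `p : X ⟶ Y` is a quotient by a finite group `G`, and `j : B ⟶ X` is open and closed with translates
either equal to it (for the elements of `H`) or disjoint from it, then `B` has the image of `B` as a
quotient by `H`.
-/

set_option autoImplicit false
set_option linter.style.haveILetI false

universe u

open CategoryTheory AlgebraicGeometry TopologicalSpace Opposite

namespace Groth.Agent.SymCoprod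

open Groth.Agent.SGA1Quot

theorem subsingleton_sections_of_empty {X : Scheme.{u}} {U : X.Opens} (h : ∀ x, x ∉ U) :
    Subsingleton Γ(X, U) :=
  ⟨fun a b => X.sheaf.eq_of_locally_eq' (fun i : PEmpty.{u+1} => (⊥ : X.Opens)) U
    (fun i => i.elim) (fun x hx => (h x hx).elim) a b (fun i => i.elim)⟩

variable {X Y B : Scheme.{u}} {G H : Type u} [Group G] [Finite G] [Group H]
  {ρ : G →* Aut X} {p : X ⟶ Y} (hp : SGA1.IsQuot ρ p) (j : B ⟶ X) [IsOpenImmersion j]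
  (ι : H →* G) (hsep : ∀ (g : G) (b b' : B), (ρ g).hom (j b) = j b' → ∃ h, ι h = g)

include hp hsep

theorem block_core (V : Y.Opens) (hV : (V : Set Y) ⊆ Set.range (j ≫ p)) :
    Function.Injective (p.appLE V (p ⁻¹ᵁ V ⊓ j.opensRange) inf_le_left).hom ∧
    ∀ (hC : ∀ h, p ⁻¹ᵁ V ⊓ j.opensRange ≤ (ρ (ι h)).hom ⁻¹ᵁ (p ⁻¹ᵁ V ⊓ j.opensRange))
      (s : Γ(X, p ⁻¹ᵁ V ⊓ j.opensRange)),
      (∀ h, ((ρ (ι h)).hom.appLE _ _ (hC h)).hom s = s) →
      s ∈ Set.range (p.appLE V (p ⁻¹ᵁ V ⊓ j.opensRange) inf_le_left).hom := by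
  classical
  set C : X.Opens := p ⁻¹ᵁ V ⊓ j.opensRange with hCdef
  let D : G → X.Opens := fun g => (ρ g).hom ⁻¹ᵁ C
  have hDV : ∀ g, D g ≤ p ⁻¹ᵁ V := fun g x hx => by
    have h1 : p ((ρ g).hom x) ∈ V := hx.1
    rwa [inv_apply hp.inv g x] at h1
  have hcov : p ⁻¹ᵁ V ≤ iSup D := fun x hx => by
    obtain ⟨b, hb⟩ := hV hx
    rw [Scheme.Hom.comp_apply] at hb
    obtain ⟨g, hg⟩ := (eq_iff_exists hp x (j b)).1 hb.symm
    exact Opens.mem_iSup.2 ⟨g, ⟨show p ((ρ g).hom x) ∈ V by rw [inv_apply hp.inv g x]; exact hx,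
      ⟨b, hg.symm⟩⟩⟩
  have hcomp : ∀ g k : G, (ρ (k * g)).hom = (ρ g).hom ≫ (ρ k).hom := fun g k => by
    rw [map_mul]; rfl
  refine ⟨fun t t' htt' => ?_, fun hC s hs => ?_⟩
  · refine hp.injective V (X.sheaf.eq_of_locally_eq' D (p ⁻¹ᵁ V) (fun g => homOfLE (hDV g)) hcov
      _ _ fun g => ?_)
    have key : ∀ u : Γ(Y, V), (X.presheaf.map (homOfLE (hDV g)).op).hom ((p.app V).hom u) =
        ((ρ g).hom.appLE C (D g) le_rfl).hom ((p.appLE V C inf_le_left).hom u) := fun u => by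
      rw [← CommRingCat.comp_apply, ← CommRingCat.comp_apply, Scheme.Hom.app_eq_appLE,
        Scheme.Hom.appLE_map, Scheme.Hom.appLE_comp_appLE, appLE_congr_hom (hp.inv g)]
    exact (key t).trans ((congrArg _ htt').trans (key t').symm)
  let t : ∀ g, Γ(X, D g) := fun g => ((ρ g).hom.appLE C (D g) le_rfl).hom s
  have hcompat : ∀ g h, (X.presheaf.map (Opens.infLELeft (D g) (D h)).op).hom (t g) =
      (X.presheaf.map (Opens.infLERight (D g) (D h)).op).hom (t h) := by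
    intro g h
    by_cases hne : ∃ x, x ∈ D g ⊓ D h
    · obtain ⟨x, hxg, hxh⟩ := hne
      obtain ⟨b, hb⟩ := hxg.2
      obtain ⟨b', hb'⟩ := hxh.2
      obtain ⟨η, hη⟩ := hsep (h * g⁻¹) b b' (by
        rw [hb, ← Scheme.Hom.comp_apply, ← hcomp, inv_mul_cancel_right]; exact hb'.symm)
      have e : (ρ h).hom = (ρ g).hom ≫ (ρ (ι η)).hom := by
        rw [← hcomp, hη, inv_mul_cancel_right]
      conv_lhs => rw [show t g = ((ρ g).hom.appLE C (D g) le_rfl).hom
        (((ρ (ι η)).hom.appLE C C (hC η)).hom s) by rw [hs η]]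
      simp only [t, ← CommRingCat.comp_apply, Scheme.Hom.appLE_comp_appLE, Scheme.Hom.appLE_map,
        appLE_congr_hom e]
    · exact (subsingleton_sections_of_empty (fun x hx => hne ⟨x, hx⟩)).elim _ _
  obtain ⟨T, hT, -⟩ := X.sheaf.existsUnique_gluing' D (p ⁻¹ᵁ V) (fun g => homOfLE (hDV g)) hcov t hcompat
  have hT' : ∀ g, (X.presheaf.map (homOfLE (hDV g)).op).hom T = t g := hT
  obtain ⟨c, hc⟩ := (hp.range_iff V T).2 (fun k => by
    refine X.sheaf.eq_of_locally_eq' D (p ⁻¹ᵁ V) (fun g => homOfLE (hDV g)) hcov _ _ fun g => ?_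
    refine Eq.trans ?_ (hT' g).symm
    have e : (ρ g).hom = (ρ k).hom ≫ (ρ (g * k⁻¹)).hom := by rw [← hcomp, inv_mul_cancel_right]
    have hle : D g ≤ (ρ k).hom ⁻¹ᵁ D (g * k⁻¹) := fun x hx => by
      show (ρ (g * k⁻¹)).hom ((ρ k).hom x) ∈ C
      rw [← Scheme.Hom.comp_apply, ← e]; exact hx
    show (X.presheaf.map (homOfLE (hDV g)).op).hom (((ρ k).hom.appLE _ _ _).hom T) = _
    have h1 : (X.presheaf.map (homOfLE (hDV g)).op).hom (((ρ k).hom.appLE (p ⁻¹ᵁ V) (p ⁻¹ᵁ V)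
        (SGA1.preimage_le_of_inv ρ p hp.inv k V)).hom T) =
        ((ρ k).hom.appLE (D (g * k⁻¹)) (D g) hle).hom (t (g * k⁻¹)) := by
      rw [← hT', ← CommRingCat.comp_apply, ← CommRingCat.comp_apply, Scheme.Hom.appLE_map,
        Scheme.Hom.map_appLE]
    rw [h1]
    simp only [t, ← CommRingCat.comp_apply, Scheme.Hom.appLE_comp_appLE, appLE_congr_hom e])
  have hCle : C ≤ p ⁻¹ᵁ V := inf_le_left
  refine ⟨c, ?_⟩
  have hsC : C ≤ D 1 := fun x hx => by
    show (ρ 1).hom x ∈ C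
    rw [map_one]; exact hx
  have h2 : (p.appLE V C inf_le_left).hom c =
      (X.presheaf.map (homOfLE hsC).op).hom ((X.presheaf.map (homOfLE (hDV 1)).op).hom T) := by
    rw [← hc, ← CommRingCat.comp_apply, ← CommRingCat.comp_apply, Scheme.Hom.app_eq_appLE, ← Category.assoc,
      Scheme.Hom.appLE_map, Scheme.Hom.appLE_map]
  rw [h2, hT']
  simp only [t, ← CommRingCat.comp_apply, Scheme.Hom.appLE_map]
  rw [appLE_congr_hom (show (ρ 1).hom = 𝟙 X by rw [map_one]; rfl), id_appLE]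
  exact ConcreteCategory.congr_hom (X.presheaf.map_id (op C)) s

variable (ρB : H →* Aut B) (hj : ∀ h, (ρB h).hom ≫ j = j ≫ (ρ (ι h)).hom)

include hj

theorem exists_quot_block [IsClosedImmersion j] :
    ∃ (W : Y.Opens) (r : B ⟶ W.toScheme), r ≫ W.ι = j ≫ p ∧ SGA1.IsQuot ρB r ∧
      (W : Set Y) = Set.range (j ≫ p) := by
  haveI := hp.affine
  have hpre : p ⁻¹' Set.range (j ≫ p) = ⋃ g : G, (ρ g).hom ⁻¹' Set.range j := by
    ext x
    simp only [Set.mem_preimage, Set.mem_range, Set.mem_iUnion, Scheme.Hom.comp_apply]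
    constructor
    · rintro ⟨b, hb⟩
      obtain ⟨g, hg⟩ := (eq_iff_exists hp x (j b)).1 hb.symm
      exact ⟨g, b, hg.symm⟩
    · rintro ⟨g, b, hb⟩
      exact ⟨b, by rw [hb, inv_apply hp.inv g x]⟩
  have hopen : IsOpen (Set.range (j ≫ p)) := by
    rw [← (isQuotientMap hp).isOpen_preimage]
    erw [hpre]
    exact isOpen_iUnion fun g => j.opensRange.isOpen.preimage (ρ g).hom.continuous
  let W : Y.Opens := ⟨_, hopen⟩
  have hlift : Set.range (j ≫ p) ⊆ Set.range W.ι := by rw [Scheme.Opens.range_ι]; exact subset_rfl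
  let r : B ⟶ W.toScheme := IsOpenImmersion.lift W.ι (j ≫ p) hlift
  have hr : r ≫ W.ι = j ≫ p := IsOpenImmersion.lift_fac _ _ _
  have hinv : ∀ h, (ρB h).hom ≫ r = r := fun h => by
    rw [← cancel_mono W.ι, Category.assoc, hr, ← Category.assoc, hj, Category.assoc, hp.inv]
  have haff : IsAffineHom r := ⟨fun U hU => by
    have := (hU.image_of_isOpenImmersion W.ι).preimage (j ≫ p)
    rw [← hr, Scheme.Hom.comp_preimage, Scheme.Hom.preimage_image_eq] at this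
    exact this⟩
  refine ⟨W, r, hr, isQuot_of_good (hinv := hinv) haff fun U => ?_, rfl⟩
  let V : Y.Opens := W.ι ''ᵁ U
  have hVW : (V : Set Y) ⊆ Set.range (j ≫ p) := by
    rintro y ⟨w, -, rfl⟩
    exact w.2
  obtain ⟨hinj, hsurj⟩ := block_core hp j ι hsep V hVW
  set C : X.Opens := p ⁻¹ᵁ V ⊓ j.opensRange
  have hUV : W.ι ⁻¹ᵁ V = U := Scheme.Hom.preimage_image_eq _ _
  have hE : r ⁻¹ᵁ U = j ⁻¹ᵁ C := by
    conv_lhs => rw [← hUV, ← Scheme.Hom.comp_preimage, hr, Scheme.Hom.comp_preimage]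
    ext b
    exact ⟨fun h => ⟨h, b, rfl⟩, fun h => h.1⟩
  have bij_of_eq : ∀ {A A' : Scheme.{u}} (f : A ⟶ A') [IsOpenImmersion f] (V : A'.Opens) (U : A.Opens)
      (e : U = f ⁻¹ᵁ V) (_ : (V : Set A') ⊆ Set.range f),
      Function.Bijective (f.appLE V U e.le).hom := by
    intro A A' f _ V U e hV
    subst e
    haveI := f.isIso_app V hV
    rw [← Scheme.Hom.app_eq_appLE]
    exact ConcreteCategory.bijective_of_isIso _
  have hbW : Function.Bijective (W.ι.appLE V U hUV.ge).hom :=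
    bij_of_eq W.ι V U hUV.symm (by rw [Scheme.Opens.range_ι]; exact hVW)
  have hbj : Function.Bijective (j.appLE C (r ⁻¹ᵁ U) hE.le).hom :=
    bij_of_eq j C _ hE (fun x hx => hx.2)
  have hsq : ∀ t, (r.app U).hom ((W.ι.appLE V U hUV.ge).hom t) =
      (j.appLE C (r ⁻¹ᵁ U) hE.le).hom ((p.appLE V C inf_le_left).hom t) := fun t => by
    simp only [Scheme.Hom.app_eq_appLE, ← CommRingCat.comp_apply, Scheme.Hom.appLE_comp_appLE,
      appLE_congr_hom hr]
  refine ⟨fun a a' haa' => ?_, fun s hs => ?_⟩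
  · obtain ⟨t, rfl⟩ := hbW.2 a
    obtain ⟨t', rfl⟩ := hbW.2 a'
    rw [hsq, hsq] at haa'
    rw [hinj (hbj.1 haa')]
  · obtain ⟨s', rfl⟩ := hbj.2 s
    have hC : ∀ h, C ≤ (ρ (ι h)).hom ⁻¹ᵁ C := by
      rintro h x ⟨hx1, b, rfl⟩
      refine ⟨?_, (ρB h).hom b, ?_⟩
      · show p ((ρ (ι h)).hom (j b)) ∈ V
        rw [inv_apply hp.inv]; exact hx1
      · rw [← Scheme.Hom.comp_apply, hj, Scheme.Hom.comp_apply]
    obtain ⟨t, ht⟩ := hsurj hC s' (fun h => by
      apply hbj.1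
      refine Eq.trans ?_ (hs h)
      show (j.appLE C (r ⁻¹ᵁ U) hE.le).hom (((ρ (ι h)).hom.appLE C C (hC h)).hom s') = _
      simp only [act, ← CommRingCat.comp_apply, Scheme.Hom.appLE_comp_appLE, appLE_congr_hom (hj h)])
    exact ⟨(W.ι.appLE V U hUV.ge).hom t, by rw [hsq, ht]⟩

end Groth.Agent.SymCoprod
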